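import Groth.Prelude.Def_GSzCSA
import Groth.Agent.Lib.Brauer25.SplitMap
import Groth.Agent.Lib.CSAlg.Split
import Groth.Agent.Lib.Brauer25.Index
import Mathlib.RingTheory.Norm.Basic
import Mathlib.RingTheory.Trace.Basic
import Mathlib.LinearAlgebra.Matrix.Kronecker
import Mathlib.LinearAlgebra.Eigenspace.Charpoly
import Mathlib.FieldTheory.IsAlgClosed.AlgebraicClosure

/-!
# Reduced norm and trace of a central simple algebra over a field
-/

namespace Groth.Agent.RedNorm25

open scoped TensorProduct
open Brauer25 Polynomial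

universe u v w z

set_option linter.style.haveILetI false

variable {k : Type u} [Field k] {A : Type v} [Ring A] [Algebra k A] [Algebra.IsCentral k A]
  [IsSimpleRing A] [FiniteDimensional k A] {n : ℕ} {L : Type w} [Field L] [Algebra k L]

omit [Algebra.IsCentral k A] [IsSimpleRing A] [FiniteDimensional k A] in
theorem rank_hyp (hn : Module.finrank k A = n ^ 2) (p : PrimeSpectrum k) :
    Module.rankAtStalk (R := k) A p = n ^ 2 := by
  rw [Module.rankAtStalk_eq_finrank_of_free]
  exact hn

theorem degree_ne_zero' (hn : Module.finrank k A = n ^ 2) : n ≠ 0 := by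
  rintro rfl
  exact (Module.finrank_pos (R := k) (M := A)).ne' (by simpa using hn)

/-- An algebra map to matrices of the right size is a splitting map. -/
theorem isSplitting (hn : Module.finrank k A = n ^ 2) (F : A →ₐ[k] Matrix (Fin n) (Fin n) L) :
    SplitMap.IsSplitting F := by
  haveI : Nonempty (Fin n) := ⟨⟨0, Nat.pos_of_ne_zero (degree_ne_zero' hn)⟩⟩
  haveI := CSAlg.isSimpleRing_baseChange (k := k) L A
  haveI := CSAlg.isCentral_baseChange (k := k) L A
  have hinj : Function.Injective (SplitMap.ext F) := (SplitMap.ext F).toRingHom.injective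
  have hsurj : Function.Surjective (SplitMap.ext F) :=
    (LinearMap.injective_iff_surjective_of_finrank_eq_finrank (f := (SplitMap.ext F).toLinearMap)
      (by rw [Module.finrank_baseChange, hn, Module.finrank_matrix]; simp [sq])).1 hinj
  rw [SplitMap.IsSplitting, eq_top_iff]
  rintro M -
  obtain ⟨x, rfl⟩ := hsurj M
  induction x using TensorProduct.induction_on with
  | zero => simp
  | add x y hx hy => rw [map_add]; exact add_mem hx hy
  | tmul s a =>
    rw [SplitMap.ext_tmul]
    exact Submodule.smul_mem _ _ (Submodule.subset_span ⟨a, rfl⟩)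

/-- Splitting maps give the same characteristic polynomials. -/
theorem charpoly_indep (hn : Module.finrank k A = n ^ 2)
    {L' : Type z} [Field L'] [Algebra k L'] [FiniteDimensional k L']
    (F : A →ₐ[k] Matrix (Fin n) (Fin n) L) (F' : A →ₐ[k] Matrix (Fin n) (Fin n) L') (a : A)
    (P : k[X]) (hP : P.map (algebraMap k L') = (F' a).charpoly) :
    P.map (algebraMap k L) = (F a).charpoly := by
  let W := AlgebraicClosure L
  let i : L →ₐ[k] W := IsScalarTower.toAlgHom k L W
  let j : L' →ₐ[k] W := IsAlgClosed.lift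
  have h := SplitMap.charpoly_eq (rank_hyp hn) (SplitMap.isSplitting_push i (isSplitting hn F))
    (SplitMap.isSplitting_push j (isSplitting hn F')) a
  rw [SplitMap.push_apply, SplitMap.push_apply] at h
  refine Polynomial.map_injective (i : L →+* W) (i : L →+* W).injective ?_
  have h1 : ((F a).map i).charpoly = (F a).charpoly.map (i : L →+* W) :=
    Matrix.charpoly_map (F a) (i : L →+* W)
  have h2 : ((F' a).map j).charpoly = (F' a).charpoly.map (j : L' →+* W) :=
    Matrix.charpoly_map (F' a) (j : L' →+* W)
  rw [← h1, h, h2, ← hP, Polynomial.map_map, Polynomial.map_map]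
  exact congrArg (fun f => P.map f) (RingHom.ext fun r => by simp)

/-- The reduced characteristic polynomial exists. -/
theorem exists_redChar (hn : Module.finrank k A = n ^ 2) (F : A →ₐ[k] Matrix (Fin n) (Fin n) L) (a : A) :
    ∃ P : k[X], P.map (algebraMap k L) = (F a).charpoly :=
  SplitMap.exists_charpoly (rank_hyp hn) (isSplitting hn F) a

theorem det_eq_of_map {P : k[X]} {M : Matrix (Fin n) (Fin n) L} (h : P.map (algebraMap k L) = M.charpoly) :
    M.det = algebraMap k L ((-1) ^ n * P.coeff 0) := by
  rw [Matrix.det_eq_sign_charpoly_coeff, ← h, Polynomial.coeff_map, Fintype.card_fin, map_mul,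
    map_pow, map_neg, map_one]

theorem trace_eq_of_map (hn0 : n ≠ 0) {P : k[X]} {M : Matrix (Fin n) (Fin n) L}
    (h : P.map (algebraMap k L) = M.charpoly) : M.trace = algebraMap k L (-P.coeff (n - 1)) := by
  haveI : Nonempty (Fin n) := ⟨⟨0, Nat.pos_of_ne_zero hn0⟩⟩
  rw [Matrix.trace_eq_neg_charpoly_coeff, ← h, Polynomial.coeff_map, Fintype.card_fin, map_neg]

/-- The data of a split presentation used in `IsRedNorm`. -/
theorem of_presentation {K : Type u} [Field K] [Algebra k K] {m : ℕ}
    (φ : K ⊗[k] A ≃ₐ[K] Matrix (Fin m) (Fin m) K) :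
    Module.finrank k A = m ^ 2 ∧ ∃ F : A →ₐ[k] Matrix (Fin m) (Fin m) K, ∀ a, F a = φ (1 ⊗ₜ a) := by
  refine ⟨?_, (φ.toAlgHom.restrictScalars k).comp Algebra.TensorProduct.includeRight, fun a => rfl⟩
  rw [← Module.finrank_baseChange (R := K), φ.toLinearEquiv.finrank_eq, Module.finrank_matrix]
  simp [sq]

theorem redNorm_spec {N : A →* k} (hN : CSAGal.IsRedNorm k A N) (hn : Module.finrank k A = n ^ 2)
    (F : A →ₐ[k] Matrix (Fin n) (Fin n) L) (a : A) : algebraMap k L (N a) = (F a).det := by
  obtain ⟨K, _, _, _, m, φ, hφ⟩ := hN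
  obtain ⟨hm, F', hF'⟩ := of_presentation φ
  obtain rfl : m = n := Nat.pow_left_injective two_ne_zero (hm.symm.trans hn)
  obtain ⟨P, hP⟩ := exists_redChar hn F' a
  rw [det_eq_of_map (charpoly_indep hn F F' a P hP)]
  congr 1
  apply (algebraMap k K).injective
  rw [hφ, ← hF', det_eq_of_map hP]

theorem redTrace_spec {T : A →+ k} (hT : CSAGal.IsRedTrace k A T) (hn : Module.finrank k A = n ^ 2)
    (F : A →ₐ[k] Matrix (Fin n) (Fin n) L) (a : A) : algebraMap k L (T a) = (F a).trace := by
  obtain ⟨K, _, _, _, m, φ, hφ⟩ := hT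
  obtain ⟨hm, F', hF'⟩ := of_presentation φ
  obtain rfl : m = n := Nat.pow_left_injective two_ne_zero (hm.symm.trans hn)
  obtain ⟨P, hP⟩ := exists_redChar hn F' a
  rw [trace_eq_of_map (degree_ne_zero' hn) (charpoly_indep hn F F' a P hP)]
  congr 1
  apply (algebraMap k K).injective
  rw [hφ, ← hF', trace_eq_of_map (degree_ne_zero' hn) hP]

variable (k A) in
/-- A splitting over the algebraic closure. -/
theorem exists_split :
    ∃ (n : ℕ) (_ : Module.finrank k A = n ^ 2) (_F : A →ₐ[k] Matrix (Fin n) (Fin n) (AlgebraicClosure k)),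
      True := by
  obtain ⟨n, -, ⟨f⟩⟩ := CSAlg.splits_separableClosure (k := k) A
  let F : A →ₐ[k] Matrix (Fin n) (Fin n) (SeparableClosure k) :=
    (f.toAlgHom.restrictScalars k).comp Algebra.TensorProduct.includeRight
  exact ⟨n, finrank_of_split f,
    SplitMap.push (IsScalarTower.toAlgHom k (SeparableClosure k) (AlgebraicClosure k)) F, trivial⟩

variable (k A) in
/-- A reduced norm exists. -/
theorem exists_isRedNorm : ∃ N : A →* k, CSAGal.IsRedNorm k A N := by
  obtain ⟨K, _, _, _, _, n, hn, ⟨φ⟩⟩ : ∃ (K : Type u) (_ : Field K) (_ : Algebra k K)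
      (_ : FiniteDimensional k K) (_ : Unit) (n : ℕ) (_ : Module.finrank k A = n ^ 2),
      Nonempty (K ⊗[k] A ≃ₐ[K] Matrix (Fin n) (Fin n) K) := by
    obtain ⟨K, hf, -, n, hn0, ⟨φ⟩⟩ := CSAlg.exists_galois_splits (k := k) A
    exact ⟨K, inferInstance, inferInstance, hf, (), n, finrank_of_split φ, ⟨φ⟩⟩
  let F : A →ₐ[k] Matrix (Fin n) (Fin n) K :=
    (φ.toAlgHom.restrictScalars k).comp Algebra.TensorProduct.includeRight
  choose P hP using exists_redChar hn F
  have h : ∀ a, algebraMap k K ((-1) ^ n * (P a).coeff 0) = (F a).det := fun a =>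
    (det_eq_of_map (hP a)).symm
  refine ⟨{ toFun := fun a => (-1) ^ n * (P a).coeff 0
            map_one' := (algebraMap k K).injective (by rw [h, map_one, map_one, Matrix.det_one])
            map_mul' := fun a b => (algebraMap k K).injective (by
              rw [h, map_mul, map_mul (algebraMap k K) ((-1) ^ n * (P a).coeff 0), h, h, Matrix.det_mul]) },
    K, inferInstance, inferInstance, inferInstance, n, φ, fun a => ?_⟩
  exact h a

theorem redNorm_unique {N N' : A →* k} (hN : CSAGal.IsRedNorm k A N) (hN' : CSAGal.IsRedNorm k A N') :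
    N = N' := by
  obtain ⟨n, hn, F, -⟩ := exists_split k A
  ext a
  apply (algebraMap k (AlgebraicClosure k)).injective
  rw [redNorm_spec hN hn F, redNorm_spec hN' hn F]

theorem isUnit_of_redNorm_ne_zero {N : A →* k} (hN : CSAGal.IsRedNorm k A N) {a : A} (h : N a ≠ 0) :
    IsUnit a := by
  obtain ⟨n, hn, F, -⟩ := exists_split k A
  have hdet : IsUnit (F a) := by
    rw [Matrix.isUnit_iff_isUnit_det, isUnit_iff_ne_zero, ← redNorm_spec hN hn F]
    simpa using h
  haveI : Nonempty (Fin n) := ⟨⟨0, Nat.pos_of_ne_zero (degree_ne_zero' hn)⟩⟩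
  have hF : Function.Injective F := F.toRingHom.injective
  have hl : Function.Injective (LinearMap.mulLeft k a) := fun x y hxy => hF <| hdet.mul_left_cancel (by
    rw [← map_mul, ← map_mul]; exact congrArg F hxy)
  have hr : Function.Injective (LinearMap.mulRight k a) := fun x y hxy => hF <| hdet.mul_right_cancel (by
    rw [← map_mul, ← map_mul]; exact congrArg F hxy)
  obtain ⟨b, hb⟩ := LinearMap.surjective_of_injective hl 1
  obtain ⟨c, hc⟩ := LinearMap.surjective_of_injective hr 1
  simp only [LinearMap.mulLeft_apply, LinearMap.mulRight_apply] at hb hc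
  exact ⟨⟨a, b, hb, by rw [← left_inv_eq_right_inv hc hb]; exact hc⟩, rfl⟩

theorem redNorm_ne_zero_of_isUnit {N : A →* k} {a : A} (h : IsUnit a) : N a ≠ 0 :=
  (h.map N).ne_zero

/-- A monic polynomial all of whose roots are roots of an irreducible one is a power of it. -/
theorem eq_pow_of_annihilated {m P : k[X]} (hm : Irreducible m) (hmm : m.Monic) (hP : P.Monic)
    {ι : Type*} [Fintype ι] [DecidableEq ι] (M : Matrix ι ι L) (hMP : P.map (algebraMap k L) = M.charpoly)
    (hz : aeval M m = 0) : ∃ r, P = m ^ r := by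
  have aux : ∀ d, ∀ Q : k[X], Q.natDegree ≤ d → Q.Monic → Q ∣ P → ∃ r, Q = m ^ r := by
    intro d
    induction d with
    | zero =>
      intro Q hd hQ _
      exact ⟨0, by rw [pow_zero]; exact hQ.natDegree_eq_zero.1 (Nat.le_zero.1 hd)⟩
    | succ d ih =>
      intro Q hd hQ hdvd
      by_cases hQ1 : Q = 1
      · exact ⟨0, by rw [hQ1, pow_zero]⟩
      have hQd : Q.degree ≠ 0 := fun h => hQ1 (eq_one_of_monic_natDegree_zero hQ
        (natDegree_eq_zero_iff_degree_le_zero.2 h.le))
      -- a root in the algebraic closure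
      obtain ⟨x, hx⟩ := IsAlgClosed.exists_aeval_eq_zero (AlgebraicClosure L) Q hQd
      have hxP : aeval x P = 0 := by
        obtain ⟨c, rfl⟩ := hdvd
        rw [map_mul, hx, zero_mul]
      let W := AlgebraicClosure L
      have hev : Module.End.HasEigenvalue (Matrix.toLin' (M.map (algebraMap L W))) x := by
        rw [Module.End.hasEigenvalue_iff_isRoot_charpoly, Matrix.charpoly_toLin', Matrix.charpoly_map,
          ← hMP, Polynomial.map_map, ← IsScalarTower.algebraMap_eq k L W, IsRoot, eval_map]
        exact hxP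
      obtain ⟨v, hv⟩ := hev.exists_hasEigenvector
      have hmx : aeval x m = 0 := by
        have h1 := Module.End.aeval_apply_of_hasEigenvector (p := m.map (algebraMap k W)) hv
        have h2 : aeval (Matrix.toLin' (M.map (algebraMap L W))) (m.map (algebraMap k W)) = 0 := by
          rw [Polynomial.aeval_map_algebraMap]
          have h3 : aeval ((Algebra.ofId L W).mapMatrix M) m = 0 := by
            have h4 := aeval_algHom_apply ((Algebra.ofId L W).mapMatrix.restrictScalars k :
              Matrix ι ι L →ₐ[k] Matrix ι ι W) M m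
            rw [hz, map_zero] at h4
            exact h4
          have h4 := aeval_algHom_apply ((Matrix.toLinAlgEquiv' (R := W) (n := ι)).toAlgHom.restrictScalars k)
            ((Algebra.ofId L W).mapMatrix M) m
          rw [h3, map_zero] at h4
          exact h4
        rw [h2, LinearMap.zero_apply, eq_comm, smul_eq_zero] at h1
        simpa using h1.resolve_right hv.2
      have hmQ : m ∣ Q := by
        have h1 : minpoly k x = m := (minpoly.eq_of_irreducible_of_monic hm hmx hmm).symm
        exact h1 ▸ minpoly.dvd k x hx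
      obtain ⟨c, rfl⟩ := hmQ
      have hc : c.Monic := hmm.of_mul_monic_left hQ
      have hcd : c.natDegree ≤ d := by
        rw [hmm.natDegree_mul hc] at hd
        have := hm.natDegree_pos
        omega
      obtain ⟨r, rfl⟩ := ih c hcd hc ((dvd_mul_left c m).trans hdvd)
      exact ⟨r + 1, by rw [pow_succ']⟩
  exact aux _ P le_rfl hP dvd_rfl

/-- The reduced characteristic polynomial on a subfield of degree `n`. -/
theorem charpoly_of_subfield (hn : Module.finrank k A = n ^ 2) (F : A →ₐ[k] Matrix (Fin n) (Fin n) L)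
    {K : Type z} [Field K] [Algebra k K] [FiniteDimensional k K] (hK : Module.finrank k K = n)
    (ι : K →ₐ[k] A) (x : K) :
    (Algebra.leftMulMatrix (Module.finBasisOfFinrankEq k K hK) x).charpoly.map (algebraMap k L) =
      (F (ι x)).charpoly := by
  set M := Algebra.leftMulMatrix (Module.finBasisOfFinrankEq k K hK) x
  obtain ⟨P, hP⟩ := exists_redChar hn F (ι x)
  have hx : IsIntegral k x := .of_finite k x
  have hirr := minpoly.irreducible hx
  have hmon := minpoly.monic hx
  have hPm : P.Monic := monic_of_injective (algebraMap k L).injective (hP ▸ Matrix.charpoly_monic _)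
  have hzero : aeval ((F.comp ι) x) (minpoly k x) = 0 := by
    rw [aeval_algHom_apply, minpoly.aeval, map_zero]
  have hzero' : aeval M (minpoly k x) = 0 := by
    rw [aeval_algHom_apply, minpoly.aeval, map_zero]
  obtain ⟨r, hr⟩ := eq_pow_of_annihilated hirr hmon hPm _ hP hzero
  obtain ⟨s, hs⟩ := eq_pow_of_annihilated (L := k) hirr hmon (Matrix.charpoly_monic M) M
    (by simp) hzero'
  have hdP : P.natDegree = n := by
    rw [← natDegree_map (algebraMap k L) (p := P), hP, Matrix.charpoly_natDegree_eq_dim, Fintype.card_fin]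
  have hdM : M.charpoly.natDegree = n := by rw [Matrix.charpoly_natDegree_eq_dim, Fintype.card_fin]
  rw [hr, hmon.natDegree_pow] at hdP
  rw [hs, hmon.natDegree_pow] at hdM
  have : r = s := Nat.eq_of_mul_eq_mul_right (hirr.natDegree_pos) (hdP.trans hdM.symm)
  rw [hs, ← this, ← hr, hP]

end Groth.Agent.RedNorm25
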